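import Mathlib
import Cfsg.Agent.H323.OI.Pieces2
import Cfsg.Agent.H323.OI.VF
import Cfsg.Agent.H323.OI.Gp
import Cfsg.Agent.Lib.ComponentSolvable
import Cfsg.Agent.SignalizersComponents.DistinctComponents
import Cfsg.Agent.SignalizersComponents.CompBasic
import Cfsg.Agent.SignalizersComponents.ComponentImage
import Cfsg.Agent.OddHalf.Known

/-!
# S3325, piece 15: the row data of a component `K > M`, the classification, the cover lemma (helper312)
-/

set_option autoImplicit false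

namespace Cfsg.Agent.H312.Orth

open Cfsg Subgroup Cfsg.Agent.H323.OI
open scoped commutatorElement

/-- the action on the quotient by the centre -/
def qa (X : Type*) [Group X] : MulAut X →* MulAut (X ⧸ center X) where
  toFun α := QuotientGroup.congr _ _ α (Subgroup.characteristic_iff_map_eq.1 inferInstance α)
  map_one' := by
    ext x
    obtain ⟨x, rfl⟩ := QuotientGroup.mk_surjective x
    rfl
  map_mul' α β := by
    ext x
    obtain ⟨x, rfl⟩ := QuotientGroup.mk_surjective x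
    rfl

section

variable {G : Type*} [Group G]

/-- the action of `N_G(K)` on `K / Z(K)` -/
def act (K : Subgroup G) : ↥(normalizer (K : Set G)) →* MulAut (↥K ⧸ center ↥K) :=
  (qa ↥K).comp K.normalizerMonoidHom

theorem act_mk (K : Subgroup G) (g : ↥(normalizer (K : Set G))) (x y : ↥K) (h : (g : G) * x * (g : G)⁻¹ = y) :
    act K g (QuotientGroup.mk x) = QuotientGroup.mk y := by
  have h1 : K.normalizerMonoidHom g x = y := Subtype.ext h
  rw [← h1]
  rfl

theorem act_self (K : Subgroup G) (k : ↥K) (hk : (k : G) ∈ normalizer (K : Set G)) :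
    act K ⟨k, hk⟩ = MulAut.conj (QuotientGroup.mk k) := by
  ext x
  obtain ⟨x, rfl⟩ := QuotientGroup.mk_surjective x
  rw [act_mk K ⟨k, hk⟩ x (k * x * k⁻¹) rfl]
  rfl

/-- `K` a component, `M ≤ K ∩ K^g` nonabelian: `K^g = K` -/
theorem mem_normalizer_of_le [Finite G] {K M : Subgroup G} (hK : IsComponent K) (hM : M ≤ K) (hMa : ⁅M, M⁆ ≠ ⊥)
    (g : G) (hMg : ∀ m ∈ M, g⁻¹ * m * g ∈ K) : g ∈ normalizer (K : Set G) := by
  have hs : (K.map (MulAut.conj g).toMonoidHom).IsSubnormal := hK.1.map (f := (MulAut.conj g).toMonoidHom) (MulAut.conj g).surjective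
  have hM2 : M ≤ K.map (MulAut.conj g).toMonoidHom := fun m hm => ⟨g⁻¹ * m * g, hMg m hm, by
    change g * (g⁻¹ * m * g) * g⁻¹ = m
    group⟩
  rcases SignalizersComponents.DistinctComponents.component_le_or_commute _ G rfl K _ hK hs with h | h
  · have hc : Nat.card ↥(K.map (MulAut.conj g).toMonoidHom) = Nat.card ↥K :=
      Nat.card_congr (K.equivMapOfInjective _ (MulAut.conj g).injective).symm.toEquiv
    have h1 : K = K.map (MulAut.conj g).toMonoidHom := Subgroup.eq_of_le_of_card_ge h hc.le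
    rw [mem_normalizer_iff]
    intro x
    constructor
    · intro hx
      rw [h1]
      exact ⟨x, hx, rfl⟩
    · intro hx
      rw [h1] at hx
      obtain ⟨y, hy, hyx⟩ := hx
      have h2 : g * y * g⁻¹ = g * x * g⁻¹ := hyx
      have h3 : y = x := by simpa using h2
      rw [← h3]
      exact hy
  · exfalso
    apply hMa
    rw [eq_bot_iff, ← h]
    exact commutator_mono hM hM2

/-- the centre of a component of a group with trivial odd core is a 2-group -/
theorem isPGroup_center [Finite G] (hO : oddCore G = ⊥) {D : Subgroup G} (hD : D.IsSubnormal) :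
    IsPGroup 2 ↥(center ↥D) := by
  have h2 : pPrimeCore 2 ↥D = ⊥ := by
    have h1 := SignalizersComponents.CompBasic.map_subtype_pPrimeCore_of_subnormal 2 hD
    have h3 : pPrimeCore 2 G = ⊥ := hO
    rw [h3, inf_bot_eq] at h1
    exact (map_eq_bot_iff_of_injective _ D.subtype_injective).1 h1
  intro x
  obtain ⟨k, m, hm, hk⟩ := Nat.exists_eq_two_pow_mul_odd (orderOf_pos (x : ↥D)).ne'
  refine ⟨k, Subtype.ext ?_⟩
  change (x : ↥D) ^ 2 ^ k = 1
  have h1 : orderOf ((x : ↥D) ^ 2 ^ k) = m := by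
    rw [orderOf_pow, hk, Nat.gcd_eq_right (Dvd.intro _ rfl)]
    exact Nat.mul_div_cancel_left m (by positivity)
  have h3 : zpowers ((x : ↥D) ^ 2 ^ k) ≤ pPrimeCore 2 ↥D := by
    refine Lib.Cores.le_pPrimeCore ⟨fun y hy g => ?_⟩ ?_
    · have hyc : y ∈ center ↥D := (zpowers_le.2 (pow_mem x.2 _)) hy
      rw [mem_center_iff.1 hyc g, mul_assoc, mul_inv_cancel, mul_one]
      exact hy
    · rw [Nat.card_zpowers, h1]
      exact Nat.Coprime.symm ((Nat.Prime.coprime_iff_not_dvd Nat.prime_two).2 (by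
        rw [← even_iff_two_dvd, Nat.not_even_iff_odd]; exact hm))
  rw [h2, le_bot_iff, zpowers_eq_bot] at h3
  exact h3

end

section

variable {F : Type} [Field F] {n : ℕ} {c : Fin n → F} {G : Type} [Group G] {s : Cfg c G}

theorem M_comm (hO : OmF c) : ⁅s.M, s.M⁆ ≠ ⊥ := by
  intro h
  have hp : commutator (Om c) = ⊤ := hO.qs.1.commutator_eq_top
  have h1 : (commutator (Om c)).map s.ψ = ⁅s.M, s.M⁆ := by
    rw [commutator_def, Subgroup.map_commutator, ← MonoidHom.range_eq_map]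
  rw [hp, h, Subgroup.map_eq_bot_iff] at h1
  have h2 : (⊤ : Subgroup (Om c)) = ⊥ := by
    rw [eq_bot_iff]
    intro x hx
    have h3 : s.ψ x = 1 := h1 hx
    rw [mem_bot]
    exact s.inj (by rw [h3, map_one])
  have := Lib.ComponentSolvable.quasisimple_nontrivial hO.qs
  exact absurd h2 top_ne_bot

variable [Finite G] {K : Subgroup G}

/-- (1) the elements commuting with `t` normalise `K` -/
theorem norm_of_comm (hO : OmF c) (hK : IsComponent K) (hMK : s.M < K) {g : G} (hg : g * s.t = s.t * g) :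
    g ∈ normalizer (K : Set G) := by
  refine mem_normalizer_of_le hK hMK.le (M_comm hO) g ?_
  rintro _ ⟨m, rfl⟩
  apply hMK.le
  have h1 := s.nrm g⁻¹ (by
    calc g⁻¹ * s.t = g⁻¹ * (s.t * g) * g⁻¹ := by group
      _ = g⁻¹ * (g * s.t) * g⁻¹ := by rw [hg]
      _ = s.t * g⁻¹ := by group) m
  rw [inv_inv] at h1
  exact h1

variable (s) in
/-- `Ω(U) → K` -/
def ψK (hMK : s.M < K) : Om c →* ↥K := s.ψ.codRestrict K fun m => hMK.le ⟨m, rfl⟩

theorem coe_ψK (hMK : s.M < K) (m : Om c) : (ψK s hMK m : G) = s.ψ m := rfl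

/-- (2) the row data -/
theorem exists_row (hO : OmF c) (hq : QF s) (hK : IsComponent K) (hMK : s.M < K) (hKt : K = ⁅K, zpowers s.t⁆) :
    ∃ r : RowS c (↥K ⧸ center ↥K), r.α = act K ⟨s.t, norm_of_comm hO hK hMK rfl⟩ ∧
      r.φ = (QuotientGroup.mk' (center ↥K)).comp (ψK s hMK) := by
  have hnt := norm_of_comm (s := s) hO hK hMK (g := s.t) rfl
  have hnu := norm_of_comm (s := s) hO hK hMK s.ut
  have hnu' := norm_of_comm (s := s) hO hK hMK s.ut'
  set A := act K ⟨s.t, hnt⟩ with hA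
  set B := act K ⟨s.u, hnu⟩ with hB
  set B' := act K ⟨s.u', hnu'⟩ with hB'
  set φ : Om c →* ↥K ⧸ center ↥K := (QuotientGroup.mk' (center ↥K)).comp (ψK s hMK) with hφ
  have hker : φ.ker ≤ center (Om c) := by
    intro m hm
    have h1 : ψK s hMK m ∈ center ↥K := (QuotientGroup.eq_one_iff _).1 hm
    rw [mem_center_iff]
    intro m'
    apply s.inj
    rw [map_mul, map_mul]
    exact congrArg Subtype.val (mem_center_iff.1 h1 (ψK s hMK m'))
  have hfix : ∀ m, A (φ m) = φ m := by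
    intro m
    exact act_mk K ⟨s.t, hnt⟩ (ψK s hMK m) (ψK s hMK m) (by
      rw [coe_ψK, mul_inv_eq_iff_eq_mul]
      exact s.fix m)
  refine ⟨{
    α := A
    aa := ?_
    a1 := ?_
    φ := φ
    ker := hker
    fix := hfix
    comp := ?_
    z := s.z
    z' := s.z'
    zz := s.zz
    zz' := s.zz'
    dz := s.dz
    dz' := s.dz'
    cos := s.cos
    β := B
    β' := B'
    bb := ?_
    bb' := ?_
    ba := ?_
    ba' := ?_
    bφ := ?_
    bφ' := ?_
    m₀ := hq.tcomm.choose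
    j := hq.tcomm.choose_spec.choose
    eq := ?_ }, rfl, rfl⟩
  · rw [hA, ← map_mul]
    have : (⟨s.t, hnt⟩ : ↥(normalizer (K : Set G))) * ⟨s.t, hnt⟩ = 1 := Subtype.ext s.tt
    rw [this, map_one]
  · intro h
    -- `[K, t] ≤ Z(K)`
    have h1 : ⁅K, zpowers s.t⁆ ≤ (center ↥K).map K.subtype := by
      rw [commutator_le]
      intro k hk x hx
      have h2 : ∀ j : ℤ, s.t ^ j * k * (s.t ^ j)⁻¹ * k⁻¹ ∈ (center ↥K).map K.subtype := by
        intro j
        have h3 : act K (⟨s.t, hnt⟩ ^ j) = 1 := by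
          rw [map_zpow, ← hA, h, one_zpow]
        have hmem : s.t ^ j * k * (s.t ^ j)⁻¹ ∈ K := (mem_normalizer_iff.1 (zpow_mem hnt j) k).1 hk
        have h4 := act_mk K (⟨s.t, hnt⟩ ^ j) ⟨k, hk⟩ ⟨s.t ^ j * k * (s.t ^ j)⁻¹, hmem⟩ rfl
        rw [h3] at h4
        have h5 : (⟨k, hk⟩ : ↥K)⁻¹ * ⟨s.t ^ j * k * (s.t ^ j)⁻¹, hmem⟩ ∈ center ↥K := QuotientGroup.eq.1 h4
        refine ⟨(⟨k, hk⟩ : ↥K) * ((⟨k, hk⟩ : ↥K)⁻¹ * ⟨s.t ^ j * k * (s.t ^ j)⁻¹, hmem⟩) * (⟨k, hk⟩ : ↥K)⁻¹,
          (inferInstance : (center ↥K).Normal).conj_mem _ h5 _, ?_⟩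
        change k * (k⁻¹ * (s.t ^ j * k * (s.t ^ j)⁻¹)) * k⁻¹ = _
        group
      obtain ⟨j, rfl⟩ := mem_zpowers_iff.1 hx
      have h6 := inv_mem (h2 j)
      have h7 : ⁅k, s.t ^ j⁆ = (s.t ^ j * k * (s.t ^ j)⁻¹ * k⁻¹)⁻¹ := by
        rw [commutatorElement_def]
        group
      rw [h7]
      exact h6
    rw [← hKt] at h1
    apply Lib.ComponentSolvable.quasisimple_center_ne_top hK.2
    rw [eq_top_iff]
    intro x _
    obtain ⟨y, hy, hyx⟩ := h1 x.2
    have : y = x := Subtype.ext hyx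
    rw [← this]
    exact hy
  · -- the component
    have hRfx : φ.range ≤ fx A := by
      rintro _ ⟨m, rfl⟩
      exact hfix m
    -- the image of `C_K(t)`
    let CK : Subgroup ↥K := (centralizer {s.t}).subgroupOf K
    let CB : Subgroup (↥K ⧸ center ↥K) := CK.map (QuotientGroup.mk' (center ↥K))
    have hRC : φ.range ≤ CB := by
      rintro _ ⟨m, rfl⟩
      refine ⟨ψK s hMK m, ?_, rfl⟩
      change s.ψ m ∈ centralizer {s.t}
      rw [mem_centralizer_singleton_iff]
      exact (s.fix m).symm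
    have hCfx : CB ≤ fx A := by
      rintro _ ⟨k, hk, rfl⟩
      have h1 : (k : G) * s.t = s.t * k := mem_centralizer_singleton_iff.1 hk
      exact act_mk K ⟨s.t, hnt⟩ k k (by rw [mul_inv_eq_iff_eq_mul]; exact h1.symm)
    have hRn : ((φ.range.subgroupOf (fx A)).subgroupOf (CB.subgroupOf (fx A))).Normal := by
      constructor
      rintro ⟨⟨x, hx1⟩, hx2⟩ ⟨m, hm⟩ ⟨⟨y, hy1⟩, hy2⟩
      obtain ⟨k, hk, hky⟩ := hy2
      have hm' : φ m = x := hm
      have hky' : (QuotientGroup.mk k : ↥K ⧸ center ↥K) = y := hky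
      have h1 : (k : G) * s.t = s.t * k := mem_centralizer_singleton_iff.1 hk
      obtain ⟨m', hm'2⟩ := s.nrm k h1 m
      refine ⟨m', ?_⟩
      change φ m' = y * x * y⁻¹
      rw [← hm', ← hky']
      change (QuotientGroup.mk (ψK s hMK m') : ↥K ⧸ center ↥K) = QuotientGroup.mk (k * ψK s hMK m * k⁻¹)
      congr 1
      exact Subtype.ext hm'2
    have hCn : (CB.subgroupOf (fx A)).Normal := by
      constructor
      rintro ⟨x, hx1⟩ ⟨k, hk, hkx⟩ ⟨y, hy1⟩
      obtain ⟨l, rfl⟩ := QuotientGroup.mk_surjective y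
      have hkx' : (QuotientGroup.mk k : ↥K ⧸ center ↥K) = x := hkx
      have h1 : (k : G) * s.t = s.t * k := mem_centralizer_singleton_iff.1 hk
      -- `t l t⁻¹ = l w`, `w` central
      have hlt : s.t * (l : G) * s.t⁻¹ ∈ K := (mem_normalizer_iff.1 hnt l).1 l.2
      have h2 : (QuotientGroup.mk (⟨s.t * (l : G) * s.t⁻¹, hlt⟩ : ↥K) : ↥K ⧸ center ↥K) = QuotientGroup.mk l := by
        rw [← act_mk K ⟨s.t, hnt⟩ l ⟨_, hlt⟩ rfl]
        exact hy1
      have h3 : l⁻¹ * (⟨s.t * (l : G) * s.t⁻¹, hlt⟩ : ↥K) ∈ center ↥K := QuotientGroup.eq.1 h2.symm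
      have h4 : ∀ a : ↥K, (a : G) * ((l : G)⁻¹ * (s.t * (l : G) * s.t⁻¹)) = ((l : G)⁻¹ * (s.t * (l : G) * s.t⁻¹)) * a :=
        fun a => congrArg Subtype.val (mem_center_iff.1 h3 a)
      refine ⟨l * k * l⁻¹, ?_, ?_⟩
      · change (l : G) * k * (l : G)⁻¹ ∈ centralizer {s.t}
        rw [mem_centralizer_singleton_iff]
        have h5 := h4 k
        have h6 : s.t * (l : G) * s.t⁻¹ = l * ((l : G)⁻¹ * (s.t * (l : G) * s.t⁻¹)) := by group
        generalize (l : G)⁻¹ * (s.t * (l : G) * s.t⁻¹) = w at h5 h6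
        -- `t (l k l⁻¹) t⁻¹ = l w k w⁻¹ l⁻¹`
        have h7 : s.t * ((l : G) * k * (l : G)⁻¹) * s.t⁻¹ = (l : G) * k * (l : G)⁻¹ := by
          calc s.t * ((l : G) * k * (l : G)⁻¹) * s.t⁻¹
              = (s.t * (l : G) * s.t⁻¹) * (s.t * k * s.t⁻¹) * (s.t * (l : G) * s.t⁻¹)⁻¹ := by group
            _ = (l * w) * (k * s.t * s.t⁻¹) * (l * w)⁻¹ := by rw [h6, h1]
            _ = l * (w * k) * w⁻¹ * (l : G)⁻¹ := by group
            _ = l * (k * w) * w⁻¹ * (l : G)⁻¹ := by rw [h5]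
            _ = (l : G) * k * (l : G)⁻¹ := by group
        rw [mul_inv_eq_iff_eq_mul] at h7
        exact h7.symm
      · change (QuotientGroup.mk (l * k * l⁻¹) : ↥K ⧸ center ↥K) = QuotientGroup.mk l * x * (QuotientGroup.mk l)⁻¹
        rw [← hkx']
        rfl
    refine ⟨?_, ?_⟩
    · refine Subgroup.IsSubnormal.trans (K := CB.subgroupOf (fx A)) ?_ hRn.isSubnormal hCn.isSubnormal
      intro x hx
      exact hRC hx
    · have hne : Nontrivial ↥φ.range := by
        rw [nontrivial_iff_ne_bot]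
        intro h
        apply Lib.ComponentSolvable.quasisimple_center_ne_top hO.qs
        rw [eq_top_iff]
        intro x _
        apply hker
        have h2 : φ x ∈ φ.range := ⟨x, rfl⟩
        rw [h] at h2
        exact h2
      have h1 : IsQuasisimple ↥φ.range :=
        SignalizersComponents.ComponentImage.isQuasisimple_of_surjective hO.qs φ.rangeRestrict
          φ.rangeRestrict_surjective hne
      exact SignalizersComponents.DistinctComponents.quasisimple_congr
        (Subgroup.subgroupOfEquivOfLe hRfx).symm h1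
  · rw [hB, ← map_mul]
    have : (⟨s.u, hnu⟩ : ↥(normalizer (K : Set G))) * ⟨s.u, hnu⟩ = 1 := Subtype.ext s.uu
    rw [this, map_one]
  · rw [hB', ← map_mul]
    have : (⟨s.u', hnu'⟩ : ↥(normalizer (K : Set G))) * ⟨s.u', hnu'⟩ = 1 := Subtype.ext s.uu'
    rw [this, map_one]
  · rw [hA, hB, ← map_mul, ← map_mul]
    congr 1
    exact Subtype.ext s.ut
  · rw [hA, hB', ← map_mul, ← map_mul]
    congr 1
    exact Subtype.ext s.ut'
  · intro m
    exact act_mk K ⟨s.u, hnu⟩ (ψK s hMK m) (ψK s hMK (cj s.z m)) (s.uψ m)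
  · intro m
    exact act_mk K ⟨s.u', hnu'⟩ (ψK s hMK m) (ψK s hMK (cj s.z' m)) (s.uψ' m)
  · have h1 := hq.tcomm.choose_spec.choose_spec
    generalize hq.tcomm.choose_spec.choose = j at h1 ⊢
    generalize hq.tcomm.choose = m₀ at h1 ⊢
    have hnm : s.ψ m₀ ∈ normalizer (K : Set G) := le_normalizer (hMK.le ⟨m₀, rfl⟩)
    have h2 : (⟨s.t, hnt⟩ : ↥(normalizer (K : Set G))) = ⟨s.ψ m₀, hnm⟩ *
        (⟨s.u, hnu⟩ * ⟨s.u', hnu'⟩ * ⟨s.u, hnu⟩⁻¹ * ⟨s.u', hnu'⟩⁻¹) ^ j := Subtype.ext h1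
    rw [hA, h2, map_mul, map_pow, map_mul, map_mul, map_mul, map_inv, map_inv]
    congr 1
    exact act_self K (ψK s hMK m₀) hnm

/-- (3) the classification and the rows: the chart on `K / Z(K)` -/
theorem exists_chart [Fintype F] (hR : Rows) (hS : Sp c) {S : Type} [Group S] [Finite S] [IsSimpleGroup S]
    (hna : ¬ IsMulCommutative S) (hkn : IsKnownSimple' S) (r : RowS c S) :
    ∃ (b : ℕ) (d : Fin b → F) (ρ : OmV c d →* S), Chart c d r.α r.φ ρ := by
  rcases OddHalf.Known.classify hna hkn with h | ⟨p, hp, hp2, h⟩ | h | h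
  · exact absurd h (hR.alt c hS S r)
  · rcases h with h | h | h | h | h | h | h | h | h | h | h
    · exact absurd h (hR.psl p hp hp2 c hS S r)
    · exact absurd h (hR.psp p hp hp2 c hS S r)
    · exact absurd h (hR.psu p hp hp2 c hS S r)
    · exact hR.orth c hS S r hp hp2 (Or.inl h)
    · exact hR.orth c hS S r hp hp2 (Or.inr (Or.inl h))
    · exact hR.orth c hS S r hp hp2 (Or.inr (Or.inr h))
    · exact absurd h (hR.exc p hp hp2 c hS S r)
    · exact absurd h (hR.twe p hp hp2 c hS S r)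
    · exact absurd h.1 hp2
    · exact absurd h.1 hp2
    · exact absurd h.2 (hR.ree c hS S r)
  · exact absurd h (hR.two c hS S r)
  · exact absurd h (hR.spor c hS S r)

theorem two_ne_zero_of_odd [Fintype F] (h : Odd (Fintype.card F)) : (2 : F) ≠ 0 := by
  intro h2
  have h1 : ringChar F = 2 := CharP.ringChar_of_prime_eq_zero Nat.prime_two (by exact_mod_cast h2)
  have h3 := FiniteField.even_card_iff_char_two.1 h1
  rw [Nat.odd_iff] at h
  omega

theorem eight_le [Fintype F] (hS : Sp c) : 8 ≤ n := by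
  have h1 := hS.odd
  rw [Nat.odd_iff] at h1
  have h2 : Fintype.card F % 4 = 1 ∨ Fintype.card F % 4 = 3 := by omega
  rcases h2 with h | h
  · rcases hS.h6.1 h with h3 | h3
    · omega
    · exact h3.1.ge
  · rcases hS.h6.2 h with h3 | h3 | h3
    · omega
    · exact le_trans (by norm_num) h3.1.ge
    · exact le_trans (by norm_num) h3.1.ge

/-- **Piece 15** from the classification -/
theorem pRow_of (hCF : ∀ (S : Type) [Group S] [Finite S] [IsSimpleGroup S], IsKnownSimple' S) : PRow := by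
  intro hR hCov F _ _ n c hO hS G _ _ s hq hcore K hK hMK hKt
  obtain ⟨r, hα, hφ⟩ := exists_row hO hq hK hMK hKt
  have hss : IsSimpleGroup (↥K ⧸ center ↥K) := hK.2.2
  have hnt := norm_of_comm (s := s) hO hK hMK (g := s.t) rfl
  have hna : ¬ IsMulCommutative (↥K ⧸ center ↥K) := by
    intro h
    have hKp := hK.2.1
    have hp : Group.IsPerfect (↥K ⧸ center ↥K) := Group.IsPerfect.ofSurjective (QuotientGroup.mk'_surjective (center ↥K))
    have h1 : commutator (↥K ⧸ center ↥K) = ⊤ := hp.commutator_eq_top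
    have h2 : commutator (↥K ⧸ center ↥K) = ⊥ := by
      rw [_root_.commutator_def, commutator_eq_bot_iff_le_centralizer]
      intro x _
      rw [mem_centralizer_iff]
      intro y _
      exact h.is_comm.comm y x
    rw [h1] at h2
    have h3 := hss.toNontrivial
    exact absurd h2 top_ne_bot
  obtain ⟨b, d, ρ, hch⟩ := exists_chart hR hS hna (hCF _) r
  have h2F := two_ne_zero_of_odd hS.odd
  have h8 := eight_le hS
  have hperf : Group.IsPerfect (OmV c d) := perfect_nf (nf_sqf h2F hS.ne hch.dne) (by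
    rw [Fintype.card_sum, Fintype.card_fin, Fintype.card_fin]
    omega)
  obtain ⟨ρ', hρs, hρπ, hρψ⟩ := hCov c d hS hch.b1 hch.dne (K := ↥K) (S := ↥K ⧸ center ↥K)
    (QuotientGroup.mk' (center ↥K)) (QuotientGroup.mk'_surjective _) (by rw [QuotientGroup.ker_mk'])
    (by rw [QuotientGroup.ker_mk']; exact isPGroup_center hcore hK.1) hK.2.1 (ψK s hMK) ρ hch.surj hch.ker
    (fun m => by rw [hch.res, hφ]; rfl)
  have hrange : (K.subtype.comp ρ').range = K := by
    rw [MonoidHom.range_comp, MonoidHom.range_eq_top.2 hρs, ← MonoidHom.range_eq_map, range_subtype]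
  refine ⟨b, d, K.subtype.comp ρ', ⟨hch.b1, hch.dne, hch.d3, ?_, ?_, ?_, ?_, ?_, ?_⟩, hrange⟩
  · intro x hx
    apply hch.ker
    have h1 : ρ' x = 1 := Subtype.ext hx
    rw [MonoidHom.mem_ker, ← hρπ, h1, map_one]
  · intro m
    change ((ρ' (inU c d m) : ↥K) : G) = s.ψ m
    rw [hρψ]
    rfl
  · -- `t` acts as `1 ⊥ -1`
    let f : OmV c d →* ↥K := (K.normalizerMonoidHom ⟨s.t, hnt⟩).toMonoidHom.comp ρ'
    let g : OmV c d →* ↥K := ρ'.comp (cj (tau c d)).toMonoidHom
    have h1 : f = g := by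
      apply hom_eq_of_center hperf
      intro x
      have h2 : (QuotientGroup.mk (f x) : ↥K ⧸ center ↥K) = QuotientGroup.mk (g x) := by
        have h3 : (QuotientGroup.mk (f x) : ↥K ⧸ center ↥K) = r.α (QuotientGroup.mk (ρ' x)) := by
          rw [hα]
          exact (act_mk K ⟨s.t, hnt⟩ (ρ' x) (f x) rfl).symm
        have h4 : (QuotientGroup.mk (ρ' x) : ↥K ⧸ center ↥K) = ρ x := hρπ x
        have h5 : (QuotientGroup.mk (g x) : ↥K ⧸ center ↥K) = ρ (cj (tau c d) x) := hρπ _
        rw [h3, h4, h5, hch.tw]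
      have h6 := QuotientGroup.eq.1 h2.symm
      have h7 : f x * (g x)⁻¹ = g x * ((g x)⁻¹ * f x) * (g x)⁻¹ := by group
      rw [h7]
      exact (inferInstance : (center ↥K).Normal).conj_mem _ h6 _
    intro x
    have h2 := DFunLike.congr_fun h1 x
    exact congrArg Subtype.val h2
  · intro g hg x
    rw [hrange]
    exact (mem_normalizer_iff.1 (norm_of_comm hO hK hMK hg) _).1 (ρ' x).2
  · rw [hrange]
    exact hK
  · rw [hrange]
    exact hKt

end

end Cfsg.Agent.H312.Orth
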