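import Mathlib
import Cfsg.Agent.H312.Orth.Row
import Cfsg.Agent.LieClassical.OmegaReindex
import Cfsg.Agent.LieClassical.OrthFinite

/-!
# S3325, piece 16: the end of case (c) (helper312)
-/

set_option autoImplicit false

namespace Cfsg.Agent.H312.Orth

open Cfsg Subgroup Cfsg.Agent.H323.OI Matrix
open Cfsg.Agent.H183
open scoped commutatorElement

section

variable {F : Type} [Field F] {n b : ℕ}

theorem dq_append (c : Fin n → F) (d : Fin b → F) (v : Fin (n + b) → F) :
    dq (Fin.append c d) v = sqf c d (v ∘ finSumFinEquiv) := by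
  show ∑ i, Fin.append c d i * v i ^ 2 = (∑ i, c i * (v (finSumFinEquiv (Sum.inl i))) ^ 2) +
    ∑ i, d i * (v (finSumFinEquiv (Sum.inr i))) ^ 2
  rw [Fin.sum_univ_add]
  simp

/-- `Ω(U ⊥ P)` as the group of a diagonal form on `F^{n+b}` -/
def eOm (c : Fin n → F) (d : Fin b → F) : OmV c d ≃* Om (Fin.append c d) :=
  ((LieClassical.OmegaReindex.isometryGroupReindex finSumFinEquiv (sqf c d) (dq (Fin.append c d))
    (dq_append c d)).subgroupMap (commutator _)).trans (MulEquiv.subgroupCongr (by
      rw [_root_.commutator_def, Subgroup.map_commutator, ← MonoidHom.range_eq_map,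
        MonoidHom.range_eq_top.2 (MulEquiv.surjective _)]
      rfl))

theorem perfect_V [Fintype F] {c : Fin n → F} {d : Fin b → F} (hS : Sp c) (hd : ∀ i, d i ≠ 0) :
    Group.IsPerfect (OmV c d) := by
  have h8 := eight_le hS
  exact perfect_nf (nf_sqf (two_ne_zero_of_odd hS.odd) hS.ne hd) (by
    rw [Fintype.card_sum, Fintype.card_fin, Fintype.card_fin]
    omega)

/-- an isometry of `V` centralising `Ω(V)` is `± 1` -/
theorem pm_V [Fintype F] {c : Fin n → F} {d : Fin b → F} (hS : Sp c) (hd : ∀ i, d i ≠ 0) (A : OOV c d)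
    (h : ∀ x ∈ Omega F (sqf c d), A * x = x * A) : A = 1 ∨ A = negV c d := by
  have h8 := eight_le hS
  rcases pm_nf (nf_sqf (two_ne_zero_of_odd hS.odd) hS.ne hd) (by
    rw [Fintype.card_sum, Fintype.card_fin, Fintype.card_fin]
    omega) A h with h1 | h1
  · exact Or.inl h1
  · exact Or.inr (Subtype.ext (Units.ext h1))

end

/-- **Piece 16** -/
theorem pEnd : PEnd := by
  intro hW hComp F _ _ n c hS G _ _ s d ρ hch hsq hQ hodd
  have h2 := two_ne_zero_of_odd hS.odd
  have h8 := eight_le hS
  have hperf : Group.IsPerfect (OmV c d) := perfect_V hS hch.dne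
  have htC : s.t ∈ centralizer ({s.t} : Set G) := mem_centralizer_singleton_iff.2 rfl
  have htK : s.t ∈ ρ.range := by
    apply hQ
    refine ⟨htC, mem_centralizer_iff.2 ?_⟩
    rintro _ ⟨m, rfl⟩
    exact (s.fix m).symm
  have hMK : s.ψ.range ≤ ρ.range := by
    rintro _ ⟨m, rfl⟩
    exact ⟨inU c d m, hch.res m⟩
  have hcent : centralizer (ρ.range : Set G) ≤ ρ.range := by
    intro x hx
    apply hQ
    refine ⟨?_, centralizer_le hMK hx⟩
    show x ∈ centralizer ({s.t} : Set G)
    rw [mem_centralizer_singleton_iff]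
    exact ((mem_centralizer_iff.1 hx) _ htK).symm
  -- `K` is normal
  have hnorm : ρ.range.Normal := by
    rw [← normalizer_eq_top_iff, eq_top_iff]
    intro g _
    have hs : (ρ.range.map (MulAut.conj g).toMonoidHom).IsSubnormal :=
      hch.comp.1.map (f := (MulAut.conj g).toMonoidHom) (MulAut.conj g).surjective
    have hc : Nat.card ↥(ρ.range.map (MulAut.conj g).toMonoidHom) = Nat.card ↥ρ.range :=
      Nat.card_congr (ρ.range.equivMapOfInjective _ (MulAut.conj g).injective).symm.toEquiv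
    have h1 : ρ.range.map (MulAut.conj g).toMonoidHom = ρ.range := by
      rcases SignalizersComponents.DistinctComponents.component_le_or_commute _ G rfl ρ.range _ hch.comp hs with h | h
      · exact (Subgroup.eq_of_le_of_card_ge h hc.le).symm
      · refine Subgroup.eq_of_le_of_card_ge ?_ hc.ge
        refine le_trans ?_ hcent
        rw [Subgroup.commutator_comm, commutator_eq_bot_iff_le_centralizer] at h
        exact h
    rw [mem_normalizer_iff]
    intro x
    constructor
    · intro hx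
      rw [← h1]
      exact ⟨x, hx, rfl⟩
    · intro hx
      rw [← h1] at hx
      obtain ⟨y, hy, hyx⟩ := hx
      have h2 : g * y * g⁻¹ = g * x * g⁻¹ := hyx
      have h3 : y = x := by simpa using h2
      rw [← h3]
      exact hy
  obtain ⟨x₀, hx₀⟩ := htK
  -- `x₀ = ± τ`
  have hx₀τ : x₀.1 = tau c d ∨ x₀.1 = negV c d * tau c d := by
    have h1 : (MulAut.conj x₀).toMonoidHom = (cj (tau c d)).toMonoidHom := by
      apply hom_eq_of_center hperf
      intro x
      have h3 : ρ (x₀ * x * x₀⁻¹) = ρ (cj (tau c d) x) := by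
        rw [map_mul, map_mul, map_inv, hx₀]
        exact hch.tw x
      apply hch.ker
      rw [MonoidHom.mem_ker, map_mul, map_inv]
      exact mul_inv_eq_one.2 h3
    have h1' : ∀ x : OmV c d, x₀ * x * x₀⁻¹ = cj (tau c d) x := fun x => DFunLike.congr_fun h1 x
    have h1'' : ∀ x : OmV c d, x₀.1 * x.1 * x₀.1⁻¹ = tau c d * x.1 * (tau c d)⁻¹ := fun x => by
      have h5 : ((cj (tau c d) x : OmV c d) : OOV c d) = tau c d * x.1 * (tau c d)⁻¹ := MulAut.conjNormal_apply _ _
      rw [← h5, ← h1' x]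
      rfl
    have h3 : ∀ x ∈ Omega F (sqf c d), ((tau c d)⁻¹ * x₀.1) * x = x * ((tau c d)⁻¹ * x₀.1) := by
      intro x hx
      have h4 : x₀.1 * x * x₀.1⁻¹ = tau c d * x * (tau c d)⁻¹ := h1'' ⟨x, hx⟩
      calc ((tau c d)⁻¹ * x₀.1) * x = (tau c d)⁻¹ * (x₀.1 * x * x₀.1⁻¹) * x₀.1 := by group
        _ = (tau c d)⁻¹ * (tau c d * x * (tau c d)⁻¹) * x₀.1 := by rw [h4]
        _ = x * ((tau c d)⁻¹ * x₀.1) := by group
    rcases pm_V hS hch.dne _ h3 with h4 | h4
    · left
      rw [inv_mul_eq_one] at h4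
      exact h4.symm
    · right
      have h5 : x₀.1 = tau c d * negV c d := by rw [← h4]; group
      rw [h5]
      apply Subtype.ext
      change (tau c d).1 * (-1 : Matrix.GeneralLinearGroup (Fin n ⊕ Fin 2) F) = (-1) * (tau c d).1
      rw [neg_one_mul, mul_neg_one]
  -- Frattini
  have hfr : ρ.range ⊔ centralizer {s.t} = ⊤ := by
    rw [eq_top_iff]
    intro g _
    obtain ⟨k, hk⟩ := hW c d hS hch.dne hsq ρ hch.ker g (fun x => hnorm.conj_mem _ ⟨x, rfl⟩ g) x₀ hx₀τ
    rw [hx₀, map_mul, map_mul, map_inv, hx₀] at hk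
    have h3 : (ρ k)⁻¹ * g ∈ centralizer {s.t} := by
      rw [mem_centralizer_singleton_iff]
      calc (ρ k)⁻¹ * g * s.t = (ρ k)⁻¹ * (g * s.t * g⁻¹) * g := by group
        _ = (ρ k)⁻¹ * (ρ k * s.t * (ρ k)⁻¹) * g := by rw [hk]
        _ = s.t * ((ρ k)⁻¹ * g) := by group
    have h4 : g = ρ k * ((ρ k)⁻¹ * g) := by group
    rw [h4]
    exact mul_mem (mem_sup_left ⟨k, rfl⟩) (mem_sup_right h3)
  have hidx : Odd ρ.range.index := by
    have h3 : ρ.range.relIndex (ρ.range ⊔ centralizer {s.t}) = ρ.range.relIndex (centralizer {s.t}) :=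
      relIndex_sup_left _ _
    rw [hfr, relIndex_top_right] at h3
    rw [h3, ← inf_relIndex_right]
    exact hodd
  -- the diagonal form
  have hc' : ∀ i, Fin.append c d i ≠ 0 := by
    intro i
    refine Fin.addCases (fun i => ?_) (fun i => ?_) i
    · rw [Fin.append_left]; exact hS.ne i
    · rw [Fin.append_right]; exact hch.dne i
  let ρ₂ : Om (Fin.append c d) →* G := ρ.comp (eOm c d).symm.toMonoidHom
  have hr : ρ₂.range = ρ.range := by
    rw [MonoidHom.range_comp, MonoidHom.range_eq_top.2 (MulEquiv.surjective _), ← MonoidHom.range_eq_map]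
  have hk2 : ρ₂.ker ≤ center (Om (Fin.append c d)) := by
    intro x hx
    have h3 : (eOm c d).symm x ∈ center (OmV c d) := hch.ker hx
    rw [mem_center_iff] at h3 ⊢
    intro y
    have h4 := h3 ((eOm c d).symm y)
    rw [← map_mul, ← map_mul] at h4
    exact (eOm c d).symm.injective h4
  obtain ⟨W, hW1, hW2, hW3, hW4, hW5⟩ := hComp h2 (Fin.append c d) (by omega) hc' ρ₂ hk2 (by rw [hr]; exact hnorm)
    (by rw [hr]; exact hcent) (by rw [hr]; exact hidx)
  rw [hr] at hW3 hW4 hW5
  refine ⟨ρ.range, hnorm, ⟨Fin.append c d, hc', ?_, ?_⟩, W, hW1, hW2, hW3, hW4, hW5⟩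
  · rw [Fin.prod_univ_add]
    simp only [Fin.append_left, Fin.append_right]
    obtain ⟨a, ha⟩ := hsq
    have ha0 : a ≠ 0 := by
      rintro rfl
      rw [mul_zero] at ha
      exact (Finset.prod_ne_zero_iff.2 fun i _ => hch.dne i) ha
    rw [ha]
    constructor
    · rintro ⟨e, he⟩
      refine ⟨e * a⁻¹, ?_⟩
      field_simp
      rw [pow_two, pow_two]
      exact he
    · rintro ⟨e, he⟩
      exact ⟨e * a, by rw [he]; ring⟩
  · by_cases hinj : ρ.ker = ⊥
    · right
      exact ⟨(MonoidHom.ofInjective ((MonoidHom.ker_eq_bot_iff ρ).1 hinj)).symm.trans (eOm c d)⟩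
    · left
      have hk3 : ρ.ker = center (OmV c d) := by
        refine le_antisymm hch.ker ?_
        obtain ⟨⟨w, hw⟩, hw0⟩ := (ne_bot_iff_exists_ne_one.1 hinj)
        have hw1 : w ≠ 1 := fun h => hw0 (Subtype.ext h)
        intro y hy
        have key : ∀ y ∈ center (OmV c d), y = 1 ∨ y.1 = negV c d := by
          intro y hy
          rcases pm_V hS hch.dne y.1 (fun x hx => (congrArg Subtype.val (mem_center_iff.1 hy ⟨x, hx⟩)).symm) with h3 | h3
          · exact Or.inl (Subtype.ext h3)
          · exact Or.inr h3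
        rcases key y hy with h3 | h3
        · rw [h3]; exact one_mem _
        · rcases key w (hch.ker hw) with h4 | h4
          · exact absurd h4 hw1
          · have h5 : y = w := Subtype.ext (h3.trans h4.symm)
            rw [h5]
            exact hw
      have e1 : ↥ρ.range ≃* OmV c d ⧸ center (OmV c d) :=
        (QuotientGroup.quotientKerEquivRange ρ).symm.trans (QuotientGroup.quotientMulEquivOfEq hk3)
      exact ⟨e1.trans (LieClassical.OrthFinite.quotientCenterCongr (eOm c d))⟩

end Cfsg.Agent.H312.Orth
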