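import Mathlib
import Cfsg.Agent.H323.OI.Pieces2
import Cfsg.Agent.H312.Orth.Core

/-!
# S3325, piece 17: `O(G) = 1` at the end of case (c) (helper312)
-/

set_option autoImplicit false

namespace Cfsg.Agent.H312.Orth

open Cfsg Subgroup Cfsg.Agent.H323.OI
open scoped commutatorElement

/-- `t` inverts `O(G)`: `[t, g]` centralises `O(G)` -/
theorem comm_mem {G : Type*} [Group G] [Finite G] {t : G} (htt : t * t = 1)
    (hC : ∀ x ∈ oddCore G, t * x = x * t → x = 1) (g : G) : ⁅g, t⁆ ∈ centralizer (oddCore G : Set G) := by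
  have hn : (oddCore G).Normal := pPrimeCore_normal 2 G
  obtain ⟨hinv, -⟩ := inverts htt hC
  rw [mem_centralizer_iff]
  intro x hx
  have h2 : ∀ y ∈ oddCore G, (g * t * g⁻¹) * y * (g * t * g⁻¹)⁻¹ = y⁻¹ := by
    intro y hy
    have h3 := hinv _ (hn.conj_mem y hy g⁻¹)
    rw [inv_inv] at h3
    calc (g * t * g⁻¹) * y * (g * t * g⁻¹)⁻¹ = g * (t * (g⁻¹ * y * g) * t⁻¹) * g⁻¹ := by group
      _ = g * (g⁻¹ * y * g)⁻¹ * g⁻¹ := by rw [h3]
      _ = y⁻¹ := by group
  have h3 := h2 _ (hn.conj_mem x hx t⁻¹)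
  rw [inv_inv] at h3
  have h4 := hinv _ (hn.conj_mem x hx t⁻¹)
  rw [inv_inv] at h4
  have h5 : t * (t⁻¹ * x * t) * t⁻¹ = x := by group
  rw [h5] at h4
  have h6 : ⁅g, t⁆ * x * ⁅g, t⁆⁻¹ = x := by
    rw [commutatorElement_def]
    calc (g * t * g⁻¹ * t⁻¹) * x * (g * t * g⁻¹ * t⁻¹)⁻¹
        = (g * t * g⁻¹) * (t⁻¹ * x * t) * (g * t * g⁻¹)⁻¹ := by group
      _ = (t⁻¹ * x * t)⁻¹ := h3
      _ = x := h4.symm
  rw [mul_inv_eq_iff_eq_mul] at h6
  exact h6.symm

/-- **Piece 17** -/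
theorem pOne : POne := by
  intro G _ _ t htt hCt K hK htK
  have hn : (oddCore G).Normal := pPrimeCore_normal 2 G
  have hC : ∀ x ∈ oddCore G, t * x = x * t → x = 1 := by
    intro x hx h
    have h1 : x ∈ centralizer {t} ⊓ oddCore G := ⟨mem_centralizer_singleton_iff.2 h.symm, hx⟩
    rw [hCt] at h1
    exact h1
  obtain ⟨-, hab⟩ := inverts htt hC
  have hAn : (centralizer (oddCore G : Set G)).Normal := Subgroup.normal_centralizer
  have hcm := comm_mem htt hC
  set A : Subgroup G := centralizer (oddCore G : Set G) with hA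
  have hOA : oddCore G ≤ A := fun x hx => mem_centralizer_iff.2 fun y hy => hab y hy x hx
  have h1 : K ≤ A.map (QuotientGroup.mk' (oddCore G)) := by
    rw [hK, commutator_le]
    intro k _ x hx
    obtain ⟨j, rfl⟩ := mem_zpowers_iff.1 hx
    obtain ⟨g, rfl⟩ := QuotientGroup.mk_surjective k
    refine ⟨⁅g, t ^ j⁆, ?_, ?_⟩
    · -- `t` is central modulo `A`
      have h2 : (QuotientGroup.mk' A) ⁅g, t ^ j⁆ = 1 := by
        have h3 : Commute (QuotientGroup.mk' A g) (QuotientGroup.mk' A t) := by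
          have h4 : (QuotientGroup.mk' A) ⁅g, t⁆ = 1 := (QuotientGroup.eq_one_iff _).2 (hcm g)
          rw [map_commutatorElement] at h4
          exact commutatorElement_eq_one_iff_commute.1 h4
        rw [map_commutatorElement, map_zpow]
        exact commutatorElement_eq_one_iff_commute.2 (h3.zpow_right j)
      exact (QuotientGroup.eq_one_iff _).1 h2
    · rw [map_commutatorElement, map_zpow]
      rfl
  obtain ⟨a, ha, hat⟩ := h1 htK
  have htA : t ∈ A := by
    have h3 : a⁻¹ * t ∈ oddCore G := QuotientGroup.eq.1 hat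
    have h4 : t = a * (a⁻¹ * t) := by group
    rw [h4]
    exact mul_mem ha (hOA h3)
  rw [eq_bot_iff]
  intro x hx
  rw [mem_bot]
  have h3 := (mem_centralizer_iff.1 htA) x hx
  exact hC x hx h3.symm

end Cfsg.Agent.H312.Orth
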